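import Groth.Agent.Lib.BCCrit.Reduced
import Groth.Agent.Lib.FlatCx.DVR

/-! # Constancy of the ranks of a finite free complex over a discrete valuation ring -/

set_option autoImplicit false
set_option linter.style.haveILetI false
set_option maxHeartbeats 1000000
universe u

noncomputable section

open CategoryTheory CategoryTheory.Limits TensorProduct IsLocalRing

namespace GrothLib.DVRBetti28

open GrothLib

variable {A : Type u} [CommRing A] [IsDomain A] [IsDiscreteValuationRing A]

/-- The generic point. -/
def gen (A : Type u) [CommRing A] [IsDomain A] : PrimeSpectrum A := ⟨⊥, Ideal.isPrime_bot⟩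

/-- The fibre dimension at a point. -/
abbrev fd (M : Type u) [AddCommGroup M] [Module A M] (x : PrimeSpectrum A) : ℕ :=
  Module.finrank x.asIdeal.ResidueField (x.asIdeal.ResidueField ⊗[A] M)

theorem fd_le (M : Type u) [AddCommGroup M] [Module A M] [Module.Finite A M] :
    fd M (gen A) ≤ fd M (closedPoint A) := by
  unfold fd
  rw [← BCCrit.finrank_tensor_field M (gen A) (FractionRing A)
      ((RingHom.injective_iff_ker_eq_bot _).1 (IsFractionRing.injective A (FractionRing A))),
    ← BCCrit.finrank_tensor_field M (closedPoint A) (ResidueField A) (IsLocalRing.ker_residue (R := A))]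
  exact FlatCx.finrank_fraction_le M

theorem free_iff_fd_eq (M : Type u) [AddCommGroup M] [Module A M] [Module.Finite A M] :
    Module.Free A M ↔ fd M (closedPoint A) = fd M (gen A) := by
  unfold fd
  rw [← BCCrit.finrank_tensor_field M (gen A) (FractionRing A)
      ((RingHom.injective_iff_ker_eq_bot _).1 (IsFractionRing.injective A (FractionRing A))),
    ← BCCrit.finrank_tensor_field M (closedPoint A) (ResidueField A) (IsLocalRing.ker_residue (R := A))]
  exact (FlatCx.free_iff_finrank_eq M).trans eq_comm

theorem fd_congr {M N : Type u} [AddCommGroup M] [Module A M] [AddCommGroup N] [Module A N] (e : M ≃ₗ[A] N)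
    (x : PrimeSpectrum A) : fd M x = fd N x :=
  (TensorProduct.AlgebraTensorModule.congr (LinearEquiv.refl x.asIdeal.ResidueField x.asIdeal.ResidueField) e).finrank_eq

theorem free_cokIn_iff (L : CochainComplex (ModuleCat.{u} A) ℤ)
    (hL : ∀ i, Module.Finite A (L.X i) ∧ Module.Free A (L.X i)) (j : ℤ) :
    Module.Free A (FlatCx.cokIn L j) ↔ Module.Free A (L.homology j) := by
  haveI := fun k => (hL k).1
  haveI := fun k => (hL k).2
  haveI : ∀ k, Module.Flat A (L.X k) := fun k => inferInstance
  haveI : Module.Finite A (L.homology j) := Module.Finite.equiv (FlatCx.kerHomologyEquiv L j)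
  refine ⟨fun h => ?_, fun h => ?_⟩
  · haveI := (FlatCx.flat_cokIn_iff_dedekind L j).1 inferInstance
    exact Module.free_of_flat_of_isLocalRing
  · haveI := (FlatCx.flat_cokIn_iff_dedekind L j).2 inferInstance
    exact Module.free_of_flat_of_isLocalRing

/-- **Constancy of the rank in one degree.** -/
theorem dRank_eq_iff (L : CochainComplex (ModuleCat.{u} A) ℤ)
    (hL : ∀ i, Module.Finite A (L.X i) ∧ Module.Free A (L.X i)) (j j' : ℤ) (hj : j + 1 = j') :
    CohIII.dRank L j (closedPoint A) = CohIII.dRank L j (gen A) ↔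
      Module.Free A (L.homology j) ∧ Module.Free A (L.homology j') := by
  haveI := fun k => (hL k).1
  haveI := fun k => (hL k).2
  let n := (ComplexShape.up ℤ).next j
  let dl := (L.d ((ComplexShape.up ℤ).prev j) j).hom
  let dn := (L.d j n).hom
  obtain ⟨e₁⟩ := BCCrit.nonempty_coker_next L j
  obtain ⟨e₂⟩ := BCCrit.nonempty_cokIn L hj
  let e : (L.X n ⧸ LinearMap.range dn) ≃ₗ[A] FlatCx.cokIn L j' := e₁ ≪≫ₗ e₂.symm
  rw [← free_cokIn_iff L hL j, ← free_cokIn_iff L hL j', free_iff_fd_eq, free_iff_fd_eq,
    ← fd_congr e (closedPoint A), ← fd_congr e (gen A)]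
  have h1 := fd_le (A := A) (FlatCx.cokIn L j)
  have h2 := fd_le (A := A) (L.X n ⧸ LinearMap.range dn)
  have hX : fd (L.X j) (closedPoint A) = fd (L.X j) (gen A) := (free_iff_fd_eq (L.X j)).1 inferInstance
  have hN : fd (L.X n) (closedPoint A) = fd (L.X n) (gen A) := (free_iff_fd_eq (L.X n)).1 inferInstance
  have a₁ := FlatCx.dRank_add L j (closedPoint A)
  have a₂ := FlatCx.dRank_add L j (gen A)
  have b₁ := FlatCx.finrank_fiber_coker_add dl (closedPoint A)
  have b₂ := FlatCx.finrank_fiber_coker_add dl (gen A)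
  have c₁ := FlatCx.finrank_fiber_coker_add dn (closedPoint A)
  have c₂ := FlatCx.finrank_fiber_coker_add dn (gen A)
  simp only [fd, dl, dn, n, FlatCx.cokIn] at h1 h2 hX hN a₁ a₂ b₁ b₂ c₁ c₂ ⊢
  constructor
  · intro h
    constructor <;> omega
  · rintro ⟨h, h'⟩
    omega

end GrothLib.DVRBetti28
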